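import Cfsg.Agent.H322.SU.NoFix
import Cfsg.Agent.BpSpor.MBigCo
import Cfsg.Agent.H794.LeechPP
import Cfsg.Agent.NotCT.Orders
import Cfsg.Agent.LThreeCo1Suz.Main

/-!
# Solvably unique elements of order 13 in `Co1` and `Suz` (helper322)

An element of order 13 of `Co0` has no fixed vectors on the Leech lattice, hence (`NoFix.comm_of_noFix`) centralises
all `t`-subgroups it normalises, `t ≠ 13`.
-/

set_option autoImplicit false

namespace Cfsg.Agent.H322.SUCo

open Cfsg Cfsg.Agent Cfsg.Agent.H465.SU Cfsg.Agent.H794.LeechPP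
open Cfsg.Spor (Co1)
open Cfsg.Agent.SporadicStructure.Co0Base
open Subgroup

theorem rep_faithful (g : Co0) (hg : rep g = 1) : g = 1 := by
  apply co0_ext
  intro v
  apply toV_injective
  rw [← rep_toV, hg, one_smul]
  rfl

theorem rep_noFix {x : Co0} (hx : orderOf x = 13) (v : Sp) (hv : rep x v = v) : v = 0 := by
  have hx13 : x ^ 13 = 1 := by rw [← hx, pow_orderOf_eq_one]
  -- the sum of the powers
  have h0 : ∀ w : leechLattice, ∑ i ∈ Finset.range 13, (x ^ i) • w = 0 := by
    intro w
    apply BpSpor.MBigCo.free_thirteen hx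
    rw [co0_smul_sum]
    have h1 : ∑ i ∈ Finset.range 13, x • x ^ i • w = ∑ i ∈ Finset.range 13, x ^ (i + 1) • w :=
      Finset.sum_congr rfl fun i _ => by rw [pow_succ', mul_smul]
    rw [h1]
    have h2 := Finset.sum_range_succ (fun i => x ^ i • w) 13
    have h3 := Finset.sum_range_succ' (fun i => x ^ i • w) 13
    rw [h2] at h3
    simp only [pow_zero, hx13] at h3
    exact (add_right_cancel h3).symm
  have h1 : ∑ i ∈ Finset.range 13, rep (x ^ i) = 0 := by
    apply ext_e8
    intro j
    rw [LinearMap.sum_apply, LinearMap.zero_apply]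
    have h2 : ∀ i, rep (x ^ i) (toV (e8 j)) = toV (x ^ i • e8 j) := fun i => rep_toV _ _
    rw [Finset.sum_congr rfl fun i _ => h2 i]
    have h3 := congrArg toV (h0 (e8 j))
    funext k
    have h4 := congrFun h3 k
    rw [toV_apply, toV_apply] at h4
    rw [Finset.sum_apply]
    simp only [toV_apply]
    rw [coe_sum, Finset.sum_apply, Int.cast_sum] at h4
    rw [h4]
    simp
  have h2 : ∀ i : ℕ, rep (x ^ i) v = v := by
    intro i
    induction i with
    | zero => rw [pow_zero, map_one]; rfl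
    | succ i ih => rw [pow_succ', map_mul, Module.End.mul_apply, ih, hv]
  have h3 := LinearMap.congr_fun h1 v
  rw [LinearMap.sum_apply, Finset.sum_congr rfl fun i _ => h2 i, Finset.sum_const, Finset.card_range,
    LinearMap.zero_apply] at h3
  rw [← Nat.cast_smul_eq_nsmul ℂ] at h3
  exact (smul_eq_zero.1 h3).resolve_left (by norm_num)

/-- an element of order 13 of `Co0` centralises the `t`-subgroups it normalises -/
theorem comm_thirteen {x : Co0} (hx : orderOf x = 13) {t : ℕ} (ht : t.Prime) (ht13 : t ≠ 13) (T : Subgroup Co0)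
    (hT : IsPGroup t T) (hxT : ∀ u ∈ T, x * u * x⁻¹ ∈ T) : ∀ u ∈ T, x * u = u * x := by
  have := CpAutBig.CoZero.finite_co0
  refine NoFix.comm_of_noFix rep rep_faithful (by norm_num) ?_ hx (rep_noFix hx) ht ht13 T hT hxT
  intro t m ht h
  have h12 : t ^ m = 12 := by omega
  have h2 : t ∣ 12 := by
    rw [← h12]
    apply dvd_pow_self
    rintro rfl
    norm_num at h12
  have h3 : 2 = t := (Nat.prime_dvd_prime_iff_eq Nat.prime_two ht).1
    (Nat.prime_two.dvd_of_dvd_pow (h12 ▸ (by norm_num : (2 : ℕ) ∣ 12)))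
  have h4 : 3 = t := (Nat.prime_dvd_prime_iff_eq Nat.prime_three ht).1
    (Nat.prime_three.dvd_of_dvd_pow (h12 ▸ (by norm_num : (3 : ℕ) ∣ 12)))
  omega

theorem card_co0 : Nat.card Co0 = 2 * Nat.card Co1 := by
  have h := Subgroup.card_mul_index (Subgroup.center Co0)
  rw [SporadicA.Co0Basic.card_center] at h
  exact h.symm

theorem card_co1 : Nat.card Co1 = 4157776806543360000 :=
  have := CpAutBig.CoZero.finite_co0
  NotCT.Orders.co1 ⟨MulEquiv.refl _⟩

theorem suel_co0 {x : Co0} (hx : orderOf x = 13) : SUel 13 x := by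
  have := CpAutBig.CoZero.finite_co0
  refine SUel.of_prime (by norm_num) ?_ hx fun t ht ht13 T hT hxT => comm_thirteen hx ht ht13 T hT hxT
  rw [card_co0, card_co1]
  norm_num

theorem suel_co1 {s : Co1} (hs : orderOf s = 13) : SUel 13 s := by
  have := CpAutBig.CoZero.finite_co0
  obtain ⟨a, rfl, -, ha⟩ := BpSpor.MBigCo.exists_lift_thirteen hs
  refine SUel.map (QuotientGroup.mk' (Subgroup.center Co0)) (QuotientGroup.mk'_surjective _) ?_ (by norm_num) ?_
    (suel_co0 ha)
  · rw [QuotientGroup.ker_mk']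
    exact Group.isSolvable_of_comm fun a b => Subtype.ext ((mem_center_iff.1 a.2 (b : Co0)).symm)
  · rw [QuotientGroup.ker_mk', SporadicA.Co0Basic.card_center]
    norm_num

/-- **Co1** -/
theorem co1 {G : Type*} [Group G] [Finite G] (h : Spor.IsoCo1 G) : HasSU1 G := by
  have h13 : Fact (Nat.Prime 13) := ⟨by norm_num⟩
  obtain ⟨f⟩ := id h
  obtain ⟨y, hy⟩ := exists_prime_orderOf_dvd_card' (G := G) 13 (by rw [NotCT.Orders.co1 h]; norm_num)
  refine ⟨13, y, by norm_num, by norm_num, hy, by rw [NotCT.Orders.co1 h]; norm_num, ?_⟩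
  have h1 := (suel_co1 (s := f y) (by rw [MulEquiv.orderOf_eq, hy])).congr f.symm
  rwa [f.symm_apply_apply] at h1

/-- restriction to a subgroup -/
theorem suel_restrict {K : Type*} [Group K] {p : ℕ} {H : Subgroup K} {y : H} (h : SUel p (y : K)) : SUel p y := by
  obtain ⟨h1, ⟨k, hk⟩, h3⟩ := h
  refine ⟨fun h => h1 (by rw [h]; rfl), ⟨k, by rw [← Subgroup.orderOf_coe, hk]⟩, ?_⟩
  intro M hM hyM A B hA hB hAc hBc
  have hM' : Group.IsSolvable (M.map H.subtype) :=
    Group.isSolvable_of_surjective (f := H.subtype.subgroupMap M) (MonoidHom.subgroupMap_surjective _ _)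
  have h4 := h3 _ hM' ⟨y, hyM, rfl⟩ (A.map H.subtype) (B.map H.subtype) (map_mono hA) (map_mono hB)
    (by rw [card_map_of_injective H.subtype_injective, hAc]) (by rw [card_map_of_injective H.subtype_injective, hBc])
  exact map_injective H.subtype_injective h4

open LThreeCo1Suz.Main LThreeCo1.FourCo1 in
/-- **Suz** -/
theorem suz {G : Type*} [Group G] [Finite G] (h : Spor.IsoSuz G) : HasSU1 G := by
  have h13 : Fact (Nat.Prime 13) := ⟨by norm_num⟩
  have := CpAutBig.CoZero.finite_co0
  obtain ⟨f⟩ := id h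
  obtain ⟨f'⟩ := isoSuz_X
  let C := centralizer ({X 0} : Set Co1)
  let π : C →* C ⧸ EE := QuotientGroup.mk' EE
  have hπ : Function.Surjective π := QuotientGroup.mk'_surjective _
  have hcard : Nat.card (C ⧸ EE) = Nat.card G := Nat.card_congr (f'.trans f.symm).toEquiv
  have hd : 13 ∣ Nat.card C := by
    refine dvd_trans ?_ (card_dvd_of_surjective π hπ)
    rw [hcard, NotCT.Orders.suz h]
    norm_num
  obtain ⟨y, hy⟩ := exists_prime_orderOf_dvd_card' (G := C) 13 hd
  have hker : π.ker = EE := QuotientGroup.ker_mk' _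
  have h3 : IsPGroup 3 EE := fun g => ⟨1, Subtype.ext (by rw [pow_one]; exact cube g.2)⟩
  have h1 : SUel 13 y := suel_restrict (suel_co1 (s := (y : Co1)) (by rw [Subgroup.orderOf_coe, hy]))
  have hco : ¬ 13 ∣ Nat.card EE := by
    intro hd
    have : Fact (Nat.Prime 3) := ⟨by norm_num⟩
    obtain ⟨n, hn⟩ := IsPGroup.iff_card.1 h3
    rw [hn] at hd
    have := (Nat.prime_dvd_prime_iff_eq (by norm_num) (by norm_num)).1
      ((show Nat.Prime 13 by norm_num).dvd_of_dvd_pow hd)
    omega
  have h2 : SUel 13 (π y) := by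
    refine h1.map π hπ ?_ (by norm_num) ?_
    · rw [hker]
      have : Fact (Nat.Prime 3) := ⟨by norm_num⟩
      have := h3.isNilpotent
      infer_instance
    · rw [hker]
      exact hco
  have hord : orderOf (π y) = 13 := by
    refine orderOf_eq_prime (by rw [← map_pow, ← hy, pow_orderOf_eq_one, map_one]) h2.1
  refine ⟨13, (f'.trans f.symm) (π y), by norm_num, by norm_num, by rw [MulEquiv.orderOf_eq, hord],
    by rw [NotCT.Orders.suz h]; norm_num, h2.congr _⟩

end Cfsg.Agent.H322.SUCo
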