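import Cfsg.Agent.H465.SpArith
import Cfsg.Agent.H440.MinimalAction
import Cfsg.Agent.H851.P1
import Cfsg.Agent.OddOrderLocal.ExtraspecialCycle

/-!
# An element of prime order without fixed vectors centralises the invariant `t`-subgroups (helper322)

`comm_of_noFix`: `ρ` a faithful representation over `ℂ` of a finite group, `x` of prime order `e` without nonzero
fixed vectors, `e ≠ t ^ m + 1` for prime powers `t ^ m`.  Then `x` centralises every `x`-invariant `t`-subgroup,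
`t ≠ e` prime.
-/

set_option autoImplicit false
set_option linter.unusedSectionVars false

namespace Cfsg.Agent.H322.NoFix

open Subgroup Cfsg.Agent.H440 Cfsg.Agent.H465.SU
open scoped commutatorElement

variable {Γ V : Type*} [Group Γ] [Finite Γ] [AddCommGroup V] [Module ℂ V]

/-- powers of `x` -/
theorem noFix_sum (ρ : Representation ℂ Γ V) {e : ℕ} {x : Γ} (hx : x ^ e = 1)
    (hfix : ∀ v, ρ x v = v → v = 0) : ∑ i ∈ Finset.range e, ρ (x ^ i) = 0 := by
  ext v
  rw [LinearMap.zero_apply]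
  apply hfix
  have h1 : (∑ i ∈ Finset.range e, ρ x ^ i) * (ρ x - 1) = 0 := by
    rw [geom_sum_mul, ← map_pow, hx, map_one, sub_self]
  have h2 : (ρ x - 1) * (∑ i ∈ Finset.range e, ρ x ^ i) = 0 := by
    rw [← h1]
    exact ((Commute.sub_left (Commute.sum_right _ _ _ fun i _ => Commute.pow_right rfl i)
      (Commute.one_left _)) : Commute _ _).eq
  have h3 : (∑ i ∈ Finset.range e, ρ (x ^ i)) = ∑ i ∈ Finset.range e, ρ x ^ i :=
    Finset.sum_congr rfl fun i _ => map_pow ρ x i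
  rw [h3]
  have h4 := LinearMap.congr_fun h2 v
  rw [Module.End.mul_apply, LinearMap.sub_apply, LinearMap.zero_apply, sub_eq_zero] at h4
  exact h4

/-- `x` acting fixed-point-freely on `T`: `T` acts trivially -/
theorem trivial_of_fpf (ρ : Representation ℂ Γ V) {e : ℕ} (he : e.Prime) {x : Γ} (hx : orderOf x = e)
    (hfix : ∀ v, ρ x v = v → v = 0) (T : Subgroup Γ) (hxT : ∀ u ∈ T, x * u * x⁻¹ ∈ T)
    (hC : ∀ u ∈ T, x * u = u * x → u = 1) : ∀ s ∈ T, ρ s = 1 := by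
  classical
  have hft : Fintype T := Fintype.ofFinite T
  have hxe : x ^ e = 1 := by rw [← hx, pow_orderOf_eq_one]
  have hxT' : ∀ (i : ℕ), ∀ u ∈ T, x ^ i * u * (x ^ i)⁻¹ ∈ T := by
    intro i
    induction i with
    | zero => intro u hu; simpa using hu
    | succ i ih =>
      intro u hu
      have h1 := hxT _ (ih u hu)
      have h2 : x * (x ^ i * u * (x ^ i)⁻¹) * x⁻¹ = x ^ (i + 1) * u * (x ^ (i + 1))⁻¹ := by
        rw [pow_succ']; group
      rwa [h2] at h1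
  -- the bijection
  have key : ∀ i : ℕ, 0 < i → i < e → ∑ t : T, ρ ((t : Γ) * x ^ i * (t : Γ)⁻¹) =
      (∑ t : T, ρ (t : Γ)) * ρ (x ^ i) := by
    intro i hi hie
    let f : T → T := fun t => t * ⟨x ^ i * (t : Γ)⁻¹ * (x ^ i)⁻¹, hxT' i _ (T.inv_mem t.2)⟩
    have hf : Function.Injective f := by
      intro s t hst
      have h1 : (s : Γ) * (x ^ i * (s : Γ)⁻¹ * (x ^ i)⁻¹) = (t : Γ) * (x ^ i * (t : Γ)⁻¹ * (x ^ i)⁻¹) :=
        congrArg Subtype.val hst
      have h2 : Commute (x ^ i) ((t : Γ)⁻¹ * (s : Γ)) := by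
        have h3 : (s : Γ) * (x ^ i * (s : Γ)⁻¹) = (t : Γ) * (x ^ i * (t : Γ)⁻¹) := by
          have := congrArg (· * x ^ i) h1
          simpa [mul_assoc] using this
        show x ^ i * ((t : Γ)⁻¹ * (s : Γ)) = ((t : Γ)⁻¹ * (s : Γ)) * x ^ i
        calc x ^ i * ((t : Γ)⁻¹ * (s : Γ)) = (t : Γ)⁻¹ * ((t : Γ) * (x ^ i * (t : Γ)⁻¹)) * s := by group
          _ = (t : Γ)⁻¹ * ((s : Γ) * (x ^ i * (s : Γ)⁻¹)) * s := by rw [h3]
          _ = ((t : Γ)⁻¹ * (s : Γ)) * x ^ i := by group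
      have h4 : Commute x ((t : Γ)⁻¹ * (s : Γ)) := by
        have h5 : Nat.Coprime i (orderOf x) := by
          rw [hx]
          exact (Nat.coprime_of_lt_prime hi.ne' hie he).symm
        obtain ⟨m, hm⟩ := exists_pow_eq_self_of_coprime h5
        rw [← hm]
        exact h2.pow_left m
      have h6 := hC _ (T.mul_mem (T.inv_mem t.2) s.2) h4.eq
      apply Subtype.ext
      exact (inv_mul_eq_one.1 h6).symm
    have hf' : Function.Bijective f := Finite.injective_iff_bijective.1 hf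
    rw [Finset.sum_mul]
    rw [← Function.Bijective.sum_comp hf' (fun t : T => ρ (t : Γ) * ρ (x ^ i))]
    refine Finset.sum_congr rfl fun t _ => ?_
    rw [← map_mul]
    congr 1
    show (t : Γ) * x ^ i * (t : Γ)⁻¹ = (t : Γ) * (x ^ i * (t : Γ)⁻¹ * (x ^ i)⁻¹) * x ^ i
    group
  -- summing up
  have h0 : ∑ t : T, ρ (t : Γ) * (∑ i ∈ Finset.range e, ρ (x ^ i)) * ρ ((t : Γ)⁻¹) = 0 := by
    rw [noFix_sum ρ hxe hfix]
    simp
  have h1 : ∑ t : T, ρ (t : Γ) * (∑ i ∈ Finset.range e, ρ (x ^ i)) * ρ ((t : Γ)⁻¹) =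
      ∑ i ∈ Finset.range e, ∑ t : T, ρ ((t : Γ) * x ^ i * (t : Γ)⁻¹) := by
    rw [Finset.sum_comm]
    refine Finset.sum_congr rfl fun t _ => ?_
    rw [Finset.mul_sum, Finset.sum_mul]
    refine Finset.sum_congr rfl fun i _ => ?_
    rw [map_mul, map_mul]
  obtain ⟨n, rfl⟩ : ∃ n, e = n + 1 := ⟨e - 1, by have := he.one_lt; omega⟩
  have h2 : ∑ i ∈ Finset.range (n + 1), ∑ t : T, ρ ((t : Γ) * x ^ i * (t : Γ)⁻¹) =
      (∑ t : T, ρ (t : Γ)) * (∑ i ∈ Finset.range (n + 1), ρ (x ^ i)) - (∑ t : T, ρ (t : Γ)) +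
        (Fintype.card T : ℂ) • 1 := by
    rw [Finset.sum_range_succ' (fun i => ∑ t : T, ρ ((t : Γ) * x ^ i * (t : Γ)⁻¹)),
      Finset.sum_range_succ' (fun i => ρ (x ^ i)), mul_add, Finset.mul_sum]
    have h3 : ∀ i ∈ Finset.range n, ∑ t : T, ρ ((t : Γ) * x ^ (i + 1) * (t : Γ)⁻¹) =
        (∑ t : T, ρ (t : Γ)) * ρ (x ^ (i + 1)) := fun i hi =>
      key (i + 1) (Nat.succ_pos i) (by have := Finset.mem_range.1 hi; omega)
    rw [Finset.sum_congr rfl h3]
    have h4 : ∑ t : T, ρ ((t : Γ) * x ^ 0 * (t : Γ)⁻¹) = (Fintype.card T : ℂ) • 1 := by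
      have : ∀ t : T, ρ ((t : Γ) * x ^ 0 * (t : Γ)⁻¹) = 1 := by
        intro t
        rw [pow_zero, mul_one, mul_inv_cancel, map_one]
      rw [Finset.sum_congr rfl fun t _ => this t, Finset.sum_const, Finset.card_univ, Nat.cast_smul_eq_nsmul]
    rw [h4, pow_zero, map_one, mul_one]
    abel
  rw [noFix_sum ρ hxe hfix, mul_zero, zero_sub, ← h1, h0] at h2
  have hS : (∑ t : T, ρ (t : Γ)) = (Fintype.card T : ℂ) • 1 := by
    have := h2.symm
    rwa [neg_add_eq_zero] at this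
  intro s hs
  have h5 : ρ s * (∑ t : T, ρ (t : Γ)) = ∑ t : T, ρ (t : Γ) := by
    rw [Finset.mul_sum]
    refine Fintype.sum_bijective (fun t : T => ⟨s, hs⟩ * t) (Group.mulLeft_bijective _) _ _ fun t => ?_
    rw [← map_mul]
    rfl
  rw [hS, mul_smul_comm, mul_one] at h5
  have h6 : (Fintype.card T : ℂ) ≠ 0 := Nat.cast_ne_zero.2 Fintype.card_ne_zero
  exact smul_right_injective _ h6 h5

theorem normalizes {x : Γ} (T : Subgroup Γ) (hxT : ∀ u ∈ T, x * u * x⁻¹ ∈ T) :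
    zpowers x ≤ normalizer (T : Set Γ) := by
  rw [zpowers_le, mem_normalizer_iff_map_conj_eq]
  refine eq_of_le_of_card_ge ?_ (le_of_eq (card_map_of_injective (MulAut.conj x).injective).symm)
  rintro _ ⟨u, hu, rfl⟩
  exact hxT u hu

theorem comm_bot_iff (T : Subgroup Γ) (x : Γ) : ⁅T, zpowers x⁆ = ⊥ ↔ ∀ u ∈ T, x * u = u * x := by
  rw [commutator_eq_bot_iff_le_centralizer]
  constructor
  · intro h u hu
    exact (mem_centralizer_iff.1 (h hu) x (mem_zpowers x))
  · intro h u hu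
    rw [mem_centralizer_iff]
    rintro _ ⟨i, rfl⟩
    exact ((show Commute x u from h u hu).zpow_left i).eq

/-- the special case -/
theorem special_case [FiniteDimensional ℂ V] (ρ : Representation ℂ Γ V) (hρ : ∀ g, ρ g = 1 → g = 1) {e : ℕ}
    (he : e.Prime) (hF : ∀ t m : ℕ, t.Prime → t ^ m + 1 ≠ e) {x : Γ} (hx : orderOf x = e)
    (hfix : ∀ v, ρ x v = v → v = 0) {t : ℕ} (ht : t.Prime) (hte : t ≠ e) (T : Subgroup Γ) (hT : IsPGroup t T)
    (hxT : ∀ u ∈ T, x * u * x⁻¹ ∈ T) (Z : Subgroup Γ) (hZT : Z < T) (hxZ : ∀ u ∈ Z, x * u * x⁻¹ ∈ Z)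
    (hTT : ⁅T, T⁆ ≤ Z) (hZc : ∀ z ∈ Z, ∀ u ∈ T, z * u = u * z) (hxZc : ∀ z ∈ Z, x * z = z * x)
    (hZfix : ∀ u ∈ T, u⁻¹ * (x * u * x⁻¹) ∈ Z → u ∈ Z)
    (hirr : ∀ R : Subgroup Γ, Z ≤ R → R ≤ T → (∀ u ∈ R, x * u * x⁻¹ ∈ R) → R = Z ∨ R = T)
    (hna : ¬ ∀ u ∈ T, ∀ v ∈ T, u * v = v * u) : False := by
  have hft : Fact t.Prime := ⟨ht⟩
  push Not at hna
  obtain ⟨a, ha, b, hb, hab⟩ := hna
  set z0 := a * b * a⁻¹ * b⁻¹ with hz0
  have hz0T : z0 ∈ Z := hTT (commutator_mem_commutator ha hb)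
  have hz01 : z0 ≠ 1 := by
    intro h
    apply hab
    have h1 : a * b * a⁻¹ = b := by
      rw [hz0, mul_inv_eq_one] at h
      exact h
    exact mul_inv_eq_iff_eq_mul.1 h1
  have hN : Nat.card Γ ≠ 0 := Nat.card_pos.ne'
  have hxe : x ^ e = 1 := by rw [← hx, pow_orderOf_eq_one]
  -- an eigenvalue of `z0`
  obtain ⟨c, hc1, hc⟩ := OddOrderLocal.ExtraspecialCycle.exists_eigenvalue_ne_one (K := ℂ) (p := Nat.card Γ)
    (Nat.cast_ne_zero.2 hN) (ρ z0) (by rw [← map_pow, pow_card_eq_one', map_one]) (fun h => hz01 (hρ z0 h))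
  -- a minimal invariant subspace of the eigenspace
  let P : Submodule ℂ V → Prop := fun W => W ≠ ⊥ ∧ W ≤ Module.End.eigenspace (ρ z0) c ∧
    (∀ u ∈ T, ∀ w ∈ W, ρ u w ∈ W) ∧ ∀ w ∈ W, ρ x w ∈ W
  have hcommE : ∀ g : Γ, z0 * g = g * z0 → ∀ w ∈ Module.End.eigenspace (ρ z0) c,
      ρ g w ∈ Module.End.eigenspace (ρ z0) c := by
    intro g hg w hw
    rw [Module.End.mem_eigenspace_iff] at hw ⊢
    rw [← Module.End.mul_apply, ← map_mul, hg, map_mul, Module.End.mul_apply, hw, map_smul]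
  obtain ⟨W, hW, hmin⟩ := (wellFounded_lt (α := Submodule ℂ V)).has_min {W | P W}
    ⟨_, hc, le_refl _, fun u hu => hcommE u (hZc z0 hz0T u hu), hcommE x (hxZc z0 hz0T).symm⟩
  obtain ⟨hW0, hWE, hTW, hxW⟩ := hW
  -- elements of `Z` act by scalars
  have hscalZ : ∀ z ∈ Z, ∃ d : ℂ, ∀ w ∈ W, ρ z w = d • w := by
    intro z hz
    have hzW : ∀ w ∈ W, ρ z w ∈ W := hTW z (hZT.le hz)
    have hnt : Nontrivial W := Submodule.nontrivial_iff_ne_bot.2 hW0
    obtain ⟨d, hd⟩ := Module.End.exists_eigenvalue ((ρ z).restrict hzW)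
    obtain ⟨⟨v, hv⟩, hvr, hv0⟩ := hd.exists_hasEigenvector
    rw [Module.End.mem_eigenspace_iff] at hvr
    have hvr' : ρ z v = d • v := congrArg Subtype.val hvr
    have hv0' : v ≠ 0 := fun h => hv0 (Subtype.ext h)
    refine ⟨d, ?_⟩
    let W' : Submodule ℂ V := W ⊓ Module.End.eigenspace (ρ z) d
    have hcomm' : ∀ g : Γ, z * g = g * z → (∀ w ∈ W, ρ g w ∈ W) → ∀ w ∈ W', ρ g w ∈ W' := by
      intro g hg hgW w hw
      refine ⟨hgW w hw.1, ?_⟩
      have hw2 := hw.2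
      rw [SetLike.mem_coe, Module.End.mem_eigenspace_iff] at hw2 ⊢
      rw [← Module.End.mul_apply, ← map_mul, hg, map_mul, Module.End.mul_apply, hw2, map_smul]
    have hW' : P W' := by
      refine ⟨?_, inf_le_left.trans hWE, fun u hu => hcomm' u (hZc z hz u hu) (hTW u hu),
        hcomm' x (hxZc z hz).symm hxW⟩
      intro h
      apply hv0'
      have : v ∈ W' := ⟨hv, Module.End.mem_eigenspace_iff.2 hvr'⟩
      rwa [h, Submodule.mem_bot] at this
    have h1 : ¬ W' < W := hmin W' hW'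
    have h2 : W' = W := (inf_le_left.lt_or_eq).resolve_left h1
    intro w hw
    rw [← h2] at hw
    exact Module.End.mem_eigenspace_iff.1 hw.2
  -- the radical
  let R : Subgroup Γ :=
    { carrier := {y | y ∈ T ∧ ∀ z ∈ T, ∀ w ∈ W, ρ (y * z * y⁻¹ * z⁻¹) w = w}
      one_mem' := ⟨T.one_mem, fun z _ w _ => by simp⟩
      mul_mem' := by
        rintro y y' ⟨hy1, hy2⟩ ⟨hy1', hy2'⟩
        refine ⟨T.mul_mem hy1 hy1', fun z hz w hw => ?_⟩
        have h1 : y' * z * y'⁻¹ * z⁻¹ ∈ Z := hTT (commutator_mem_commutator hy1' hz)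
        have h2 : y * y' * z * (y * y')⁻¹ * z⁻¹ = (y' * z * y'⁻¹ * z⁻¹) * (y * z * y⁻¹ * z⁻¹) := by
          calc y * y' * z * (y * y')⁻¹ * z⁻¹ = y * (y' * z * y'⁻¹ * z⁻¹) * y⁻¹ * (y * z * y⁻¹ * z⁻¹) := by group
            _ = (y' * z * y'⁻¹ * z⁻¹) * (y * z * y⁻¹ * z⁻¹) := by
              rw [← hZc _ h1 y hy1]; group
        rw [h2, map_mul, Module.End.mul_apply, hy2 z hz w hw, hy2' z hz w hw]
      inv_mem' := by
        rintro y ⟨hy1, hy2⟩
        refine ⟨T.inv_mem hy1, fun z hz w hw => ?_⟩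
        have h1 : y * z * y⁻¹ * z⁻¹ ∈ Z := hTT (commutator_mem_commutator hy1 hz)
        have h2 : (y⁻¹ * z * y⁻¹⁻¹ * z⁻¹) * (y * z * y⁻¹ * z⁻¹) = 1 := by
          have h3 := hZc _ h1 y hy1
          have h4 : y⁻¹ * z * y⁻¹⁻¹ * z⁻¹ = y⁻¹ * (y * z * y⁻¹ * z⁻¹)⁻¹ * y := by group
          rw [h4]
          have h5 : y⁻¹ * (y * z * y⁻¹ * z⁻¹)⁻¹ * y = (y * z * y⁻¹ * z⁻¹)⁻¹ := by
            have h6 : Commute (y * z * y⁻¹ * z⁻¹) y := h3
            have h7 := h6.inv_left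
            rw [mul_assoc, h7.eq, ← mul_assoc, inv_mul_cancel, one_mul]
          rw [h5, inv_mul_cancel]
        have h3 : ρ ((y⁻¹ * z * y⁻¹⁻¹ * z⁻¹) * (y * z * y⁻¹ * z⁻¹)) w = w := by rw [h2, map_one]; rfl
        rw [map_mul, Module.End.mul_apply, hy2 z hz w hw] at h3
        exact h3 }
  have hRT : R ≤ T := fun y hy => hy.1
  have hZR : Z ≤ R := by
    intro y hy
    refine ⟨hZT.le hy, fun z hz w hw => ?_⟩
    have h1 : y * z * y⁻¹ * z⁻¹ = 1 := by
      rw [hZc y hy z hz]; group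
    rw [h1, map_one]; rfl
  have hxW' : ∀ w ∈ W, ρ x⁻¹ w ∈ W := by
    have h1 : ∀ i : ℕ, ∀ w ∈ W, ρ (x ^ i) w ∈ W := by
      intro i
      induction i with
      | zero => intro w hw; rw [pow_zero, map_one]; exact hw
      | succ i ih => intro w hw; rw [pow_succ', map_mul, Module.End.mul_apply]; exact hxW _ (ih w hw)
    intro w hw
    have h2 : x⁻¹ = x ^ (e - 1) := by
      rw [inv_eq_iff_mul_eq_one, ← pow_succ', Nat.sub_add_cancel he.one_lt.le, hxe]
    rw [h2]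
    exact h1 _ w hw
  have hxT' : ∀ u ∈ T, x⁻¹ * u * x ∈ T := fun u hu =>
    (mem_normalizer_iff''.1 ((zpowers_le.1 (normalizes T hxT))) u).1 hu
  have hRx : ∀ u ∈ R, x * u * x⁻¹ ∈ R := by
    rintro y ⟨hy1, hy2⟩
    refine ⟨hxT y hy1, fun z hz w hw => ?_⟩
    have h1 : x * y * x⁻¹ * z * (x * y * x⁻¹)⁻¹ * z⁻¹ =
        x * ((y * (x⁻¹ * z * x) * y⁻¹ * (x⁻¹ * z * x)⁻¹) * x⁻¹) := by group
    rw [h1, map_mul, Module.End.mul_apply, map_mul, Module.End.mul_apply, hy2 _ (hxT' z hz) _ (hxW' w hw),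
      ← Module.End.mul_apply, ← map_mul, mul_inv_cancel, map_one]
    rfl
  have hRneT : R ≠ T := by
    intro h
    have h1 : a ∈ R := by rw [h]; exact ha
    obtain ⟨w, hw, hw0⟩ := Submodule.exists_mem_ne_zero_of_ne_bot hW0
    have h2 := h1.2 b hb w hw
    have h3 := Module.End.mem_eigenspace_iff.1 (hWE hw)
    rw [hz0, h2] at h3
    have h4 : (c - 1) • w = 0 := by rw [sub_smul, one_smul, ← h3, sub_self]
    rcases smul_eq_zero.1 h4 with h5 | h5
    · exact hc1 (sub_eq_zero.1 h5)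
    · exact hw0 h5
  have hRZ : R = Z := (hirr R hZR hRT hRx).resolve_right hRneT
  have heT : ¬ e ∣ Nat.card T := by
    intro h
    obtain ⟨n, hn⟩ := IsPGroup.iff_card.1 hT
    rw [hn] at h
    exact hte ((Nat.prime_dvd_prime_iff_eq he ht).1 (he.dvd_of_dvd_pow h)).symm
  obtain ⟨d, hd1, hd2⟩ := H851.PQ.P1 ρ T Z Z x he hxe hxT (Nat.cast_ne_zero.2 he.ne_zero)
    (Nat.cast_ne_zero.2 Nat.card_pos.ne') heT W hW0 hTW hxW
    (fun y hy z hz => hscalZ _ (hTT (commutator_mem_commutator hy hz)))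
    (fun y => by
      constructor
      · intro hy
        rw [← hRZ] at hy
        exact hy
      · intro hy
        rw [← hRZ]
        exact hy)
    (fun y => by
      constructor
      · intro hy
        exact ⟨hZT.le hy, Z.mul_mem (Z.inv_mem hy) (hxZ y hy)⟩
      · rintro ⟨hy1, hy2⟩
        exact hZfix y hy1 hy2)
    (fun w _ => hfix w)
  rw [relIndex_self, mul_one] at hd2
  -- the number of fixed points
  obtain ⟨k, hk⟩ := IsPGroup.iff_card.1 hT
  obtain ⟨j, hjk, hj, hdvd⟩ := card_fixed he ht hte hx hk hxT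
  have hCZ : T ⊓ centralizer ({x} : Set Γ) = Z := by
    apply le_antisymm
    · rintro u ⟨hu1, hu2⟩
      apply hZfix u hu1
      have : x * u * x⁻¹ = u := mul_inv_eq_iff_eq_mul.2 (mem_centralizer_singleton_iff.1 hu2).symm
      rw [this, inv_mul_cancel]
      exact Z.one_mem
    · intro u hu
      exact ⟨hZT.le hu, mem_centralizer_singleton_iff.2 (hxZc u hu).symm⟩
  rw [hCZ] at hj
  have hidx : Z.relIndex T = t ^ j := by
    have h1 := Subgroup.card_mul_index (Z.subgroupOf T)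
    have h2 : Nat.card (Z.subgroupOf T) = Nat.card Z := Nat.card_congr (subgroupOfEquivOfLe hZT.le).toEquiv
    rw [h2, hj, hk] at h1
    have h3 : t ^ k = t ^ (k - j) * t ^ j := by rw [← pow_add]; congr 1; omega
    rw [h3] at h1
    exact Nat.eq_of_mul_eq_mul_left (pow_pos ht.pos _) h1
  have hidx1 : Z.relIndex T ≠ 1 := by
    intro h
    rw [relIndex_eq_one] at h
    exact hZT.not_ge h
  rw [← hidx, ← hd1] at hdvd
  have hd0 : d ≠ 0 := by
    rintro rfl
    rw [hidx, zero_pow two_ne_zero] at hd1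
    exact (pow_pos ht.pos j).ne hd1
  have hd11 : d ≠ 1 := by
    rintro rfl
    exact hidx1 (by rw [← hd1, one_pow])
  have hle : d ≤ e - 1 := (Nat.pow_le_pow_iff_left two_ne_zero).1 hd2
  have h2 : d ^ 2 - 1 = (d - 1) * (d + 1) := by
    obtain ⟨n, rfl⟩ : ∃ n, d = n + 1 := ⟨d - 1, by omega⟩
    rw [Nat.add_sub_cancel]
    have : (n + 1) ^ 2 = n * (n + 1 + 1) + 1 := by ring
    rw [this, Nat.add_sub_cancel]
  rw [h2, he.dvd_mul] at hdvd
  have he1 := he.one_lt
  rcases hdvd with h | h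
  · have := Nat.le_of_dvd (by omega) h
    omega
  · have h3 := Nat.le_of_dvd (by omega) h
    have h4 : d + 1 = e := by omega
    have h5 : d ∣ t ^ j := by
      rw [← hidx, ← hd1]
      exact dvd_pow_self d two_ne_zero
    obtain ⟨m, -, hm⟩ := (Nat.dvd_prime_pow ht).1 h5
    exact hF t m ht (by rw [← hm, h4])

/-- **An element of prime order without fixed vectors centralises the invariant `t`-subgroups.** -/
theorem comm_of_noFix [FiniteDimensional ℂ V] (ρ : Representation ℂ Γ V) (hρ : ∀ g, ρ g = 1 → g = 1) {e : ℕ}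
    (he : e.Prime) (hF : ∀ t m : ℕ, t.Prime → t ^ m + 1 ≠ e) {x : Γ} (hx : orderOf x = e)
    (hfix : ∀ v, ρ x v = v → v = 0) {t : ℕ} (ht : t.Prime) (hte : t ≠ e) (T : Subgroup Γ) (hT : IsPGroup t T)
    (hxT : ∀ u ∈ T, x * u * x⁻¹ ∈ T) : ∀ u ∈ T, x * u = u * x := by
  have hft : Fact t.Prime := ⟨ht⟩
  -- induction on the order
  suffices H : ∀ n : ℕ, ∀ T : Subgroup Γ, Nat.card T = n → IsPGroup t T → (∀ u ∈ T, x * u * x⁻¹ ∈ T) →
      ∀ u ∈ T, x * u = u * x from H _ T rfl hT hxT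
  intro n
  induction n using Nat.strong_induction_on with
  | _ n ih =>
  intro T hTn hT hxT
  by_contra hcon
  rw [← comm_bot_iff] at hcon
  have hBP : zpowers x ≤ normalizer (T : Set Γ) := normalizes T hxT
  have hAp : (Nat.card (zpowers x)).Coprime t := by
    rw [Nat.card_zpowers, hx]
    exact (Nat.coprime_primes he ht).2 (Ne.symm hte)
  have hinv : ∀ U : Subgroup Γ, zpowers x ≤ normalizer (U : Set Γ) → ∀ u ∈ U, x * u * x⁻¹ ∈ U := fun U hU u hu =>
    (mem_normalizer_iff.1 (hU (mem_zpowers x)) u).1 hu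
  have hmin : ∀ U : Subgroup Γ, U < T → zpowers x ≤ normalizer (U : Set Γ) → ⁅U, zpowers x⁆ = ⊥ := by
    intro U hU hxU
    rw [comm_bot_iff]
    refine ih (Nat.card U) ?_ U rfl (hT.to_le hU.le) (hinv U hxU)
    rw [← hTn]
    exact lt_of_not_ge fun h => hU.ne (eq_of_le_of_card_ge hU.le h)
  have hPA := MinimalAction.commutator_eq hT hBP le_rfl le_normalizer hAp hcon hmin
  by_cases hab : ∀ u ∈ T, ∀ v ∈ T, u * v = v * u
  · -- abelian
    have hTT : ⁅T, T⁆ ≤ ⊥ := by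
      rw [commutator_le]
      intro u hu v hv
      rw [mem_bot, commutatorElement_eq_one_iff_mul_comm]
      exact hab u hu v hv
    have hfpf : ∀ u ∈ T, x * u = u * x → u = 1 := by
      intro u hu hxu
      have h1 := MinimalAction.mem_of_fixed hT hBP le_rfl hAp hPA (N := ⊥) bot_le
        (by intro g _; rw [mem_normalizer_iff]; intro h; rw [mem_bot, mem_bot, mul_inv_eq_one, mul_eq_left]) hTT hu
        (fun a ha => by
          obtain ⟨i, rfl⟩ := ha
          rw [mem_bot, commutatorElement_eq_one_iff_mul_comm]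
          exact ((show Commute x u from hxu).zpow_left i).eq.symm)
      rwa [mem_bot] at h1
    have h1 := trivial_of_fpf ρ he hx hfix T hxT hfpf
    apply hcon
    rw [comm_bot_iff]
    intro u hu
    rw [hρ u (h1 u hu), mul_one, one_mul]
  · -- special
    set Z := MinimalAction.frat T with hZ
    have hTne : T ≠ ⊥ := by
      rintro rfl
      exact hab fun u hu v hv => by
        rw [mem_bot] at hu hv
        rw [hu, hv]
    have hZT : Z < T := lt_of_le_of_ne (MinimalAction.frat_le T) (MinimalAction.frat_ne hTne)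
    have hxZn : zpowers x ≤ normalizer (Z : Set Γ) := MinimalAction.le_normalizer_frat hBP
    have hTT : ⁅T, T⁆ ≤ Z := MinimalAction.commutator_le_frat hT
    have hZTn : T ≤ normalizer (Z : Set Γ) := MinimalAction.le_normalizer_frat le_normalizer
    have hZc := MinimalAction.le_centralizer hPA hmin hZT hxZn hZTn
    have hxZ := (comm_bot_iff Z x).1 (hmin Z hZT hxZn)
    refine special_case ρ hρ he hF hx hfix ht hte T hT hxT Z hZT (hinv Z hxZn) hTT
      (fun z hz u hu => (mem_centralizer_iff.1 (hZc hz) u hu).symm) hxZ ?_ ?_ hab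
    · intro u hu hu2
      refine MinimalAction.mem_of_fixed hT hBP le_rfl hAp hPA hZT.le hxZn hTT hu fun a ha => ?_
      obtain ⟨i, rfl⟩ := mem_powers_iff_mem_zpowers.2 ha
      set z := u⁻¹ * (x * u * x⁻¹) with hz
      have h1 : ∀ i : ℕ, x ^ i * u * (x ^ i)⁻¹ = u * z ^ i := by
        intro i
        induction i with
        | zero => simp
        | succ i ih' =>
          calc x ^ (i + 1) * u * (x ^ (i + 1))⁻¹ = x * (x ^ i * u * (x ^ i)⁻¹) * x⁻¹ := by
                rw [pow_succ']; group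
            _ = x * u * (z ^ i * x⁻¹) := by rw [ih']; group
            _ = x * u * (x⁻¹ * z ^ i) := by
                have : Commute x z := hxZ z hu2
                rw [(this.inv_left.pow_right i).eq]
            _ = u * z * z ^ i := by rw [hz]; group
            _ = u * z ^ (i + 1) := by rw [pow_succ', mul_assoc]
      have h2 : ⁅u, x ^ i⁆ = u * (x ^ i * u * (x ^ i)⁻¹)⁻¹ := by
        rw [commutatorElement_def]; group
      show ⁅u, x ^ i⁆ ∈ Z
      rw [h2, h1, mul_inv_rev]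
      have h3 : u * ((z ^ i)⁻¹ * u⁻¹) = (z ^ i)⁻¹ := by
        have h4 : Commute u (z ^ i)⁻¹ :=
          (mem_centralizer_iff.1 (hZc (Z.inv_mem (Z.pow_mem hu2 i))) u hu)
        rw [← mul_assoc, h4.eq, mul_assoc, mul_inv_cancel, mul_one]
      rw [h3]
      exact Z.inv_mem (Z.pow_mem hu2 i)
    · intro R hZR hRT hxR
      exact MinimalAction.eq_or_eq hT hBP le_rfl hAp hPA hmin hZT.le hxZn hTT hZR hRT (normalizes R hxR)

end Cfsg.Agent.H322.NoFix
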